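import Groth.Agent.TorusChar.Cochar

/-!
# Rational points of anisotropic tori
-/

set_option autoImplicit false
set_option linter.style.haveILetI false
set_option backward.isDefEq.respectTransparency.types false
set_option synthInstance.maxHeartbeats 400000

universe u

open CategoryTheory MonoidalCategory CartesianMonoidalCategory AlgebraicGeometry TensorProduct WithConv
open scoped CategoryTheory.Obj CategoryTheory.MonObj CategoryTheory.GrpObj

noncomputable section

namespace Groth.Agent.TorusChar

open Groth.Agent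

variable {K : Type u} [Field K]

theorem isIso_toUnit_base (X : Over (Spec (CommRingCat.of K))) [IsIso X.hom] : IsIso (toUnit X) := by
  haveI : IsIso (toUnit X).left := by
    have h : (toUnit X).left ≫ (𝟙_ (Over (Spec (CommRingCat.of K)))).hom = X.hom := Over.w _
    rw [show (toUnit X).left = X.hom from (Category.comp_id _).symm.trans h]
    infer_instance
  haveI : IsIso ((Over.forget _).map (toUnit X)) := this
  exact isIso_of_reflects_iso _ (Over.forget _)

theorem isIso_spec_hom :
    IsIso ((Spec (CommRingCat.of K)).asOver (Spec (CommRingCat.of K))).hom := by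
  show IsIso (Spec.map (CommRingCat.ofHom (algebraMap K K)))
  rw [Algebra.algebraMap_self, CommRingCat.ofHom_id, Spec.map_id]
  infer_instance

/-- The unit object is the spectrum of the base. -/
def unitIso : (Spec (CommRingCat.of K)).asOver (Spec (CommRingCat.of K)) ≅ 𝟙_ (Over (Spec (CommRingCat.of K))) :=
  haveI := isIso_spec_hom (K := K)
  haveI := isIso_toUnit_base ((Spec (CommRingCat.of K)).asOver (Spec (CommRingCat.of K)))
  asIso (toUnit _)

/-- Rational points of a group isomorphic to the spectrum of a Hopf algebra. -/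
theorem exists_pointsEquiv {A : Type u} [CommRing A] [HopfAlgebra K A]
    (T : Over (Spec (CommRingCat.of K))) [GrpObj T] (i : Grp.mk T ≅ MTBridge.specGrp K A) :
    Nonempty ((𝟙_ (Over (Spec (CommRingCat.of K))) ⟶ T) ≃* WithConv (A →ₐ[K] K)) := by
  let fh : T ⟶ (Spec (CommRingCat.of A)).asOver (Spec (CommRingCat.of K)) := i.hom.hom.hom
  let fi : (Spec (CommRingCat.of A)).asOver (Spec (CommRingCat.of K)) ⟶ T := i.inv.hom.hom
  haveI : IsMonHom fh := i.hom.hom.isMonHom_hom
  have h1 : fh ≫ fi = 𝟙 _ := congrArg (fun f => f.hom.hom) i.hom_inv_id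
  have h2 : fi ≫ fh = 𝟙 _ := congrArg (fun f => f.hom.hom) i.inv_hom_id
  let E : (𝟙_ (Over (Spec (CommRingCat.of K))) ⟶ T) ≃*
      ((Spec (CommRingCat.of K)).asOver (Spec (CommRingCat.of K)) ⟶
        (Spec (CommRingCat.of A)).asOver (Spec (CommRingCat.of K))) :=
    { toFun := fun x => unitIso.hom ≫ x ≫ fh
      invFun := fun y => unitIso.inv ≫ y ≫ fi
      left_inv := fun x => by simp [h1]
      right_inv := fun y => by simp [h2]
      map_mul' := fun x y => by rw [MonObj.mul_comp, MonObj.comp_mul] }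
  exact ⟨E.trans Spec.mapMulEquiv.symm⟩

/-- A surjection onto Laurent polynomials gives a subtorus. -/
theorem exists_subtorus {A : Type u} [CommRing A] [HopfAlgebra K A]
    (T : Over (Spec (CommRingCat.of K))) [GrpObj T] (i : Grp.mk T ≅ MTBridge.specGrp K A)
    (f : A →ₐc[K] MonoidAlgebra K (Multiplicative ℤ)) (hf : Function.Surjective f) :
    ∃ j : Red.Gm (Spec (CommRingCat.of K)) ⟶ T, IsMonHom j ∧ Mono j := by
  obtain ⟨d⟩ := MTBridge.nonempty_DS_iso K ℤ
  let g : MTBridge.specGrp K (MonoidAlgebra K (Multiplicative ℤ)) ⟶ MTBridge.specGrp K A :=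
    (hopfSpec (CommRingCat.of K)).map (CommHopfAlgCat.ofHom f).op
  let F := d.hom ≫ g ≫ i.inv
  refine ⟨F.hom.hom, F.hom.isMonHom_hom, ?_⟩
  haveI hg : Mono g.hom.hom := by
    haveI : IsClosedImmersion g.hom.hom.left :=
      IsClosedImmersion.spec_of_surjective (CommRingCat.ofHom
        (f : A →ₐ[K] MonoidAlgebra K (Multiplicative ℤ)).toRingHom) hf
    haveI : Mono ((Over.forget _).map g.hom.hom) := inferInstanceAs (Mono g.hom.hom.left)
    exact (Over.forget _).mono_of_mono_map inferInstance
  haveI : IsIso d.hom.hom.hom :=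
    ⟨d.inv.hom.hom, congrArg (fun f => f.hom.hom) d.hom_inv_id, congrArg (fun f => f.hom.hom) d.inv_hom_id⟩
  haveI : IsIso i.inv.hom.hom :=
    ⟨i.hom.hom.hom, congrArg (fun f => f.hom.hom) i.inv_hom_id, congrArg (fun f => f.hom.hom) i.hom_inv_id⟩
  show Mono (d.hom.hom.hom ≫ g.hom.hom ≫ i.inv.hom.hom)
  infer_instance

/-- The data extracted from a torus: a finite group of matrices, an embedding of the rational points into
characters, and the dichotomy. -/
theorem exists_data {n : ℕ} (T : Over (Spec (CommRingCat.of K))) [GrpObj T]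
    (hT : ∃ (L : Type u) (_ : Field L) (_ : Algebra K L),
      Red.IsSplitTorusWith (Fin n → ℤ) (Red.bc (Spec.map (CommRingCat.ofHom (algebraMap K L))) T)) :
    (∃ j : Red.Gm (Spec (CommRingCat.of K)) ⟶ T, IsMonHom j ∧ Mono j) ∨
    ∃ (N : Type u) (_ : Field N) (_ : Algebra K N) (H : Subgroup (Matrix.GeneralLinearGroup (Fin n) ℤ))
      (_ : Finite H)
      (Θ : (𝟙_ (Over (Spec (CommRingCat.of K))) ⟶ T) →* (Multiplicative (Fin n → ℤ) →* Nˣ)),
      Function.Injective Θ ∧
      ∀ x, (∀ v, (Θ x v : N) ∈ (algebraMap K N).range) → Θ x ^ Nat.card H = 1 := by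
  classical
  obtain ⟨A, _, _, ⟨i⟩, N, _, _, _, _, ⟨e⟩⟩ := exists_galois_split T hT
  obtain ⟨ρ, hρ⟩ := exists_action e
  haveI : Fintype ρ.range := Fintype.ofFinite _
  rcases exists_invariant_or_sum_eq_zero ρ.range with ⟨φ, hsurj, hinv⟩ | hsum
  · obtain ⟨f, hf⟩ := exists_cochar e ρ hρ φ hsurj hinv
    exact Or.inl (exists_subtorus T i f hf)
  · obtain ⟨E⟩ := exists_pointsEquiv T i
    exact Or.inr ⟨N, inferInstance, inferInstance, ρ.range, inferInstance, (chi e).comp E.toMonoidHom,
      (chi_injective e).comp E.injective,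
      fun x hx => pow_card_eq_one _ _ (chi_invariant e ρ hρ (E x) hx) hsum⟩

end Groth.Agent.TorusChar
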