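import Groth.Agent.MTBridge.Charts
import Groth.Agent.MultT.GaloisDiag
import Groth.Agent.MultT.PiChart
import Groth.Prelude.Def_Red
import Mathlib

/-!
# A torus over a field is split by a finite Galois extension
-/

set_option autoImplicit false
set_option linter.style.haveILetI false
set_option backward.isDefEq.respectTransparency.types false

universe u

open CategoryTheory AlgebraicGeometry TensorProduct
open scoped CategoryTheory.Obj

noncomputable section

namespace Groth.Agent.TorusChar

open Groth.Agent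

/-- The character lattice in the universe of the base. -/
abbrev Lat (n : ℕ) : Type u := ULift.{u} (Multiplicative (Fin n → ℤ))

theorem isMultTypeFT_of_split {K : Type u} [Field K] {n : ℕ} (T : Over (Spec (CommRingCat.of K))) [GrpObj T]
    {L : Type u} [Field L] [Algebra K L]
    (h : Red.IsSplitTorusWith (Fin n → ℤ) (Red.bc (Spec.map (CommRingCat.ofHom (algebraMap K L))) T)) :
    SGA3x.IsMultTypeFT T := by
  let f := Spec.map (CommRingCat.ofHom (algebraMap K L))
  haveI hsub : Subsingleton (Spec (CommRingCat.of K)) := inferInstanceAs (Subsingleton (PrimeSpectrum K))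
  haveI hne : Nonempty (Spec (CommRingCat.of L)) := inferInstanceAs (Nonempty (PrimeSpectrum L))
  haveI : Flat f := (HasRingHomProperty.Spec_iff (P := @Flat)).2
    ((RingHom.flat_algebraMap_iff (R := K) (S := L)).2 inferInstance)
  haveI : Surjective f := ⟨fun x => ⟨hne.some, Subsingleton.elim _ _⟩⟩
  refine ⟨Spec (CommRingCat.of L), f, inferInstance, inferInstance, fun V _ => ?_, fun s => ?_⟩
  · rcases (V : Set (Spec (CommRingCat.of K))).eq_empty_or_nonempty with hV | ⟨x, hx⟩
    · exact ⟨⊥, by simp, by simp [hV]⟩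
    · refine ⟨⊤, by simp, ?_⟩
      ext y
      constructor
      · intro _; exact Subsingleton.elim x y ▸ hx
      · intro _; exact ⟨hne.some, trivial, Subsingleton.elim _ _⟩
  · exact ⟨⊤, trivial, Fin n → ℤ, inferInstance, inferInstance,
      MTBridge.nonempty_bc_split (f := f) h (⊤ : (Spec (CommRingCat.of L)).Opens).ι⟩

theorem exists_separable_field_point {K : Type u} [Field K] {E : Type u} [CommRing E] [Algebra K E]
    [Nontrivial E] [Algebra.Etale K E] :
    ∃ (N : Type u) (_ : Field N) (_ : Algebra K N) (_ : FiniteDimensional K N) (_ : IsGalois K N),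
      Nonempty (E →ₐ[K] N) := by
  obtain ⟨m, hm⟩ := Ideal.exists_maximal E
  letI : Field (E ⧸ m) := Ideal.Quotient.field m
  haveI : Algebra.FormallyUnramified K (E ⧸ m) :=
    Algebra.FormallyUnramified.of_surjective (Ideal.Quotient.mkₐ K m) Ideal.Quotient.mk_surjective
  haveI : Module.Finite K E := Algebra.FormallyUnramified.finite_of_free K E
  haveI : Module.Finite K (E ⧸ m) := Module.Finite.of_surjective (Ideal.Quotient.mkₐ K m).toLinearMap
    Ideal.Quotient.mk_surjective
  haveI : Algebra.IsSeparable K (E ⧸ m) := Algebra.FormallyUnramified.isSeparable K (E ⧸ m)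
  let f : (E ⧸ m) →ₐ[K] SeparableClosure K := IsSepClosed.lift
  let N := IntermediateField.normalClosure K f.fieldRange (SeparableClosure K)
  haveI : FiniteDimensional K f.fieldRange := Module.Finite.equiv (AlgEquiv.ofInjectiveField f).toLinearEquiv
  haveI : FiniteDimensional K N := normalClosure.is_finiteDimensional K f.fieldRange (SeparableClosure K)
  haveI : IsGalois K N := IsGalois.normalClosure K f.fieldRange (SeparableClosure K)
  exact ⟨N, inferInstance, inferInstance, inferInstance, inferInstance,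
    ⟨((IntermediateField.inclusion (IntermediateField.le_normalClosure f.fieldRange)).comp
      f.rangeRestrict).comp (Ideal.Quotient.mkₐ K m)⟩⟩

theorem exists_galois_split {K : Type u} [Field K] {n : ℕ} (T : Over (Spec (CommRingCat.of K))) [GrpObj T]
    (hT : ∃ (L : Type u) (_ : Field L) (_ : Algebra K L),
      Red.IsSplitTorusWith (Fin n → ℤ) (Red.bc (Spec.map (CommRingCat.ofHom (algebraMap K L))) T)) :
    ∃ (A : Type u) (_ : CommRing A) (_ : HopfAlgebra K A), Nonempty (Grp.mk T ≅ MTBridge.specGrp K A) ∧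
      ∃ (N : Type u) (_ : Field N) (_ : Algebra K N) (_ : FiniteDimensional K N) (_ : IsGalois K N),
        Nonempty (N ⊗[K] A ≃ₐc[N] MonoidAlgebra N (Lat.{u} n)) := by
  classical
  obtain ⟨L, _, _, hL⟩ := hT
  obtain ⟨A, _, _, hA, hAft, ⟨i⟩⟩ := MTBridge.exists_hopf T (isMultTypeFT_of_split T hL)
  haveI := hAft
  refine ⟨A, inferInstance, inferInstance, ⟨i⟩, ?_⟩
  obtain ⟨s, hs, hq⟩ := MultT.isQuasiIsotrivial hA
  obtain ⟨f, hf, hf0⟩ : ∃ f ∈ s, f ≠ 0 := by
    by_contra hc
    push Not at hc
    rw [Ideal.span_eq_bot.2 hc] at hs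
    exact bot_ne_top hs
  obtain ⟨R', _, _, hEt, hff, hd⟩ := hq f hf
  haveI := hEt
  haveI := hff
  let e0 : K ≃ₐ[K] Localization.Away f :=
    IsLocalization.atUnit K (Localization.Away f) f (isUnit_iff_ne_zero.2 hf0)
  haveI : Nontrivial (Localization.Away f) := e0.injective.nontrivial
  haveI : Nontrivial R' := (FaithfulSMul.algebraMap_injective (Localization.Away f) R').nontrivial
  letI : Algebra K R' := ((algebraMap (Localization.Away f) R').comp (algebraMap K _)).toAlgebra
  haveI : IsScalarTower K (Localization.Away f) R' := .of_algebraMap_eq fun _ => rfl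
  haveI : Algebra.Etale K R' := Algebra.Etale.comp K (Localization.Away f) R'
  obtain ⟨N, _, _, _, _, ⟨φ⟩⟩ := exists_separable_field_point (K := K) (E := R')
  obtain ⟨M, _, ⟨e⟩⟩ := MultT.isDiag_of_equiv (MultT.bcTrans K (Localization.Away f) R' A).symm hd
  obtain ⟨eN, -, -⟩ := MultT.exists_bialgEquiv_stage e φ
  -- compare with the given splitting
  obtain ⟨j₁⟩ := MTBridge.nonempty_bc_specGrp K L A
  obtain ⟨j₂⟩ := MTBridge.nonempty_DS_iso L (Fin n → ℤ)
  obtain ⟨eL₀⟩ := MTBridge.nonempty_bialgEquiv
    (j₁.symm ≪≫ (MTBridge.bcMapIso _ i).symm ≪≫ hL.some ≪≫ j₂)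
  let eL : L ⊗[K] A ≃ₐc[L] MonoidAlgebra L (Lat.{u} n) := eL₀.symm.trans
    (MonoidAlgebra.domCongrBialgEquiv L L (MulEquiv.ulift (α := Multiplicative (Fin n → ℤ))).symm)
  obtain ⟨eΩ, -, -⟩ := MultT.exists_bialgEquiv_stage eL (IsScalarTower.toAlgHom K L (AlgebraicClosure L))
  obtain ⟨eΩ', -, -⟩ := MultT.exists_bialgEquiv_stage eN (IsAlgClosed.lift : N →ₐ[K] AlgebraicClosure L)
  obtain ⟨μ⟩ := MultT.nonempty_mulEquiv (eΩ'.symm.trans eΩ)
  exact ⟨N, inferInstance, inferInstance, inferInstance, inferInstance,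
    ⟨eN.trans (MonoidAlgebra.domCongrBialgEquiv N N μ)⟩⟩

end Groth.Agent.TorusChar
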