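import Groth.Agent.TorusChar.Main

/-!
# Finite groups of two by two integer matrices without fixed vectors; anisotropic tori of rank two
-/

set_option autoImplicit false
set_option linter.style.haveILetI false
set_option backward.isDefEq.respectTransparency.types false

universe u

open CategoryTheory MonoidalCategory CartesianMonoidalCategory AlgebraicGeometry TensorProduct WithConv
open scoped CategoryTheory.Obj CategoryTheory.MonObj CategoryTheory.GrpObj

noncomputable section

namespace Groth.Agent.TorusChar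

theorem mul_self_eq (M : Matrix (Fin 2) (Fin 2) ℤ) : M * M = M.trace • M - M.det • 1 := by
  ext i j
  rw [Matrix.sub_apply, Matrix.smul_apply, Matrix.smul_apply]
  fin_cases i <;> fin_cases j <;>
    simp [Matrix.mul_apply, Fin.sum_univ_two, Matrix.trace_fin_two, Matrix.det_fin_two] <;> ring

theorem det_one_sub (M : Matrix (Fin 2) (Fin 2) ℤ) : (1 - M).det = 1 - M.trace + M.det := by
  simp [Matrix.trace_fin_two, Matrix.det_fin_two]
  ring

theorem trace_le_two_of_pow (M : Matrix (Fin 2) (Fin 2) ℤ) (hd : M.det = 1) {k : ℕ} (hk : 0 < k)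
    (hM : M ^ k = 1) : M.trace ≤ 2 := by
  by_contra ht
  push Not at ht
  have hmono : ∀ j, 2 ≤ (M ^ j).trace ∧ (M ^ j).trace < (M ^ (j + 1)).trace := by
    intro j
    induction j with
    | zero => simp [Matrix.trace_fin_two] at ht ⊢; omega
    | succ j ih =>
      have hrec : (M ^ (j + 1 + 1)).trace = M.trace * (M ^ (j + 1)).trace - (M ^ j).trace := by
        rw [pow_succ, pow_succ, mul_assoc, mul_self_eq, hd, one_smul, mul_sub, mul_smul_comm, mul_one,
          ← pow_succ, Matrix.trace_sub, Matrix.trace_smul, smul_eq_mul]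
      refine ⟨by omega, ?_⟩
      rw [hrec]
      nlinarith [ih.1, ih.2]
  obtain ⟨h1, h2⟩ := hmono (k - 1)
  rw [Nat.sub_add_cancel hk, hM, Matrix.trace_one] at h2
  simp at h2
  omega

theorem det_eq_of_pow (M : Matrix (Fin 2) (Fin 2) ℤ) {k : ℕ} (hk : 0 < k) (hM : M ^ k = 1) :
    M.det = 1 ∨ M.det = -1 := by
  refine Int.isUnit_iff.1 (IsUnit.of_mul_eq_one (M.det ^ (k - 1)) ?_)
  rw [← pow_succ', Nat.sub_add_cancel hk, ← Matrix.det_pow, hM, Matrix.det_one]

/-- Trace and determinant of an element of finite order. -/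
theorem finite_order_cases (M : Matrix (Fin 2) (Fin 2) ℤ) {k : ℕ} (hk : 0 < k) (hM : M ^ k = 1) :
    (M.det = 1 ∧ -2 ≤ M.trace ∧ M.trace ≤ 2 ∧ (M.trace = 2 → M = 1)) ∨ (M.det = -1 ∧ M.trace = 0) := by
  have hsq : (M * M) ^ k = 1 := by rw [← pow_two, ← pow_mul, mul_comm, pow_mul, hM, one_pow]
  have htsq : (M * M).trace = M.trace * M.trace - 2 * M.det := by
    rw [mul_self_eq, Matrix.trace_sub, Matrix.trace_smul, Matrix.trace_smul, Matrix.trace_one]
    simp [mul_comm]
  rcases det_eq_of_pow M hk hM with hd | hd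
  · refine Or.inl ⟨hd, ?_, trace_le_two_of_pow M hd hk hM, fun ht => ?_⟩
    · have := trace_le_two_of_pow (M * M) (by rw [Matrix.det_mul, hd, mul_one]) hk hsq
      rw [htsq, hd] at this
      nlinarith
    · have hN : (M - 1) * (M - 1) = 0 := by
        have h := mul_self_eq M
        rw [ht, hd] at h
        simp only [sub_mul, mul_sub, one_mul, mul_one, h, one_smul, two_smul]
        abel
      have hpow : ∀ j : ℕ, M ^ j = 1 + (j : ℤ) • (M - 1) := by
        intro j
        induction j with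
        | zero => simp
        | succ j ih =>
          rw [pow_succ, ih, show (1 + (j : ℤ) • (M - 1)) * M = (1 + (j : ℤ) • (M - 1)) * (1 + (M - 1)) by
            rw [add_sub_cancel], mul_add, mul_one, add_mul, one_mul, smul_mul_assoc, hN, smul_zero, add_zero]
          push_cast
          rw [add_smul, one_smul, add_assoc]
      have := hpow k
      rw [hM, left_eq_add, smul_eq_zero] at this
      rcases this with h | h
      · exact absurd h (by exact_mod_cast hk.ne')
      · exact sub_eq_zero.1 h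
  · have := trace_le_two_of_pow (M * M) (by rw [Matrix.det_mul, hd]; rfl) hk hsq
    rw [htsq, hd] at this
    exact Or.inr ⟨hd, mul_self_eq_zero.1 (le_antisymm (by linarith) (mul_self_nonneg _))⟩

/-- A finite group without invariant vectors has an element without fixed vectors and small coinvariants. -/
theorem exists_det_bound (H : Subgroup (Matrix.GeneralLinearGroup (Fin 2) ℤ)) [Fintype H]
    (hsum : ∀ v, ∑ h : H, (h.1 : Matrix (Fin 2) (Fin 2) ℤ).mulVec v = 0) :
    ∃ h : H, 1 ≤ (1 - (h.1 : Matrix (Fin 2) (Fin 2) ℤ)).det ∧ (1 - (h.1 : Matrix (Fin 2) (Fin 2) ℤ)).det ≤ 4 := by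
  classical
  have key : ∀ h : H, ((h.1 : Matrix (Fin 2) (Fin 2) ℤ)) ^ orderOf h = 1 := fun h => by
    exact congrArg (fun x : H => (x.1 : Matrix (Fin 2) (Fin 2) ℤ)) (pow_orderOf_eq_one h)
  by_contra hc
  push Not at hc
  have hnn : ∀ h : H, 0 ≤ (h.1 : Matrix (Fin 2) (Fin 2) ℤ).trace := by
    intro h
    rcases finite_order_cases _ (orderOf_pos h) (key h) with ⟨hd, h1, h2, -⟩ | ⟨-, h0⟩
    · have := hc h
      rw [det_one_sub, hd] at this
      by_contra hneg
      exact absurd (this (by omega)) (by omega)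
    · omega
  have h0 : ∑ h : H, (h.1 : Matrix (Fin 2) (Fin 2) ℤ) = 0 := by
    refine Matrix.toLin'.injective (LinearMap.ext fun v => ?_)
    simpa [Matrix.sum_mulVec] using hsum v
  have h3 : ∑ h : H, (h.1 : Matrix (Fin 2) (Fin 2) ℤ).trace = 0 := by rw [← Matrix.trace_sum, h0, Matrix.trace_zero]
  have h4 := (Finset.sum_eq_zero_iff_of_nonneg fun h _ => hnn h).1 h3 1 (Finset.mem_univ _)
  simp at h4

variable {K : Type u} [Field K]

theorem exists_data_two (T : Over (Spec (CommRingCat.of K))) [GrpObj T]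
    (hT : ∃ (L : Type u) (_ : Field L) (_ : Algebra K L),
      Red.IsSplitTorusWith (Fin 2 → ℤ) (Red.bc (Spec.map (CommRingCat.ofHom (algebraMap K L))) T)) :
    (∃ j : Red.Gm (Spec (CommRingCat.of K)) ⟶ T, IsMonHom j ∧ Mono j) ∨
    ∃ (N : Type u) (_ : Field N) (_ : Algebra K N) (D : ℕ) (_ : 1 ≤ D) (_ : D ≤ 4)
      (Θ : (𝟙_ (Over (Spec (CommRingCat.of K))) ⟶ T) →* (Multiplicative (Fin 2 → ℤ) →* Nˣ)),
      Function.Injective Θ ∧
      ∀ x, (∀ v, (Θ x v : N) ∈ (algebraMap K N).range) → Θ x ^ D = 1 := by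
  classical
  obtain ⟨A, _, _, ⟨i⟩, N, _, _, _, _, ⟨e⟩⟩ := exists_galois_split T hT
  obtain ⟨ρ, hρ⟩ := exists_action e
  haveI : Fintype ρ.range := Fintype.ofFinite _
  rcases exists_invariant_or_sum_eq_zero ρ.range with ⟨φ, hsurj, hinv⟩ | hsum
  · obtain ⟨f, hf⟩ := exists_cochar e ρ hρ φ hsurj hinv
    exact Or.inl (exists_subtorus T i f hf)
  · obtain ⟨h, h1, h4⟩ := exists_det_bound ρ.range hsum
    obtain ⟨E⟩ := exists_pointsEquiv T i
    refine Or.inr ⟨N, inferInstance, inferInstance, (1 - (h.1 : Matrix (Fin 2) (Fin 2) ℤ)).det.toNat, by omega,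
      by omega, (chi e).comp E.toMonoidHom, (chi_injective e).comp E.injective, fun x hx => MonoidHom.ext fun v => ?_⟩
    obtain ⟨v, rfl⟩ := Multiplicative.ofAdd.surjective v
    have hw := chi_invariant e ρ hρ (E x) hx h ((1 - (h.1 : Matrix (Fin 2) (Fin 2) ℤ)).adjugate.mulVec v)
    have hdv : ((1 - (h.1 : Matrix (Fin 2) (Fin 2) ℤ)).det.toNat : ℤ) • v =
        (1 - (h.1 : Matrix (Fin 2) (Fin 2) ℤ)).adjugate.mulVec v -
          (h.1 : Matrix (Fin 2) (Fin 2) ℤ).mulVec ((1 - (h.1 : Matrix (Fin 2) (Fin 2) ℤ)).adjugate.mulVec v) := by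
      rw [Int.toNat_of_nonneg (by omega)]
      conv_rhs => arg 1; rw [← Matrix.one_mulVec (Matrix.mulVec _ v)]
      rw [← Matrix.sub_mulVec, Matrix.mulVec_mulVec, Matrix.mul_adjugate, Matrix.smul_mulVec, Matrix.one_mulVec]
    rw [MonoidHom.pow_apply, MonoidHom.one_apply, ← zpow_natCast, ← map_zpow, ← ofAdd_zsmul, hdv, ofAdd_sub,
      map_div]
    exact div_eq_one.2 hw.symm

end Groth.Agent.TorusChar
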