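import Groth.Agent.TorusChar.Split

/-!
# The Galois action on the characters of a torus, and its rational points
-/

set_option autoImplicit false
set_option linter.style.haveILetI false

universe u

open TensorProduct WithConv

noncomputable section

namespace Groth.Agent.TorusChar

open Groth.Agent

variable {K : Type u} [Field K] {A : Type u} [CommRing A] [HopfAlgebra K A]
  {N : Type u} [Field N] [Algebra K N] {n : ℕ}

section Lift

variable {C : Type u} [CommRing C] [Algebra N C] [Algebra K C] [IsScalarTower K N C]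

/-- The extension of a point to the base change. -/
abbrev liftN (f : A →ₐ[K] C) : N ⊗[K] A →ₐ[N] C :=
  Algebra.TensorProduct.lift (Algebra.ofId N C) f fun _ _ => Commute.all _ _

theorem liftN_tmul (f : A →ₐ[K] C) (c : N) (a : A) : liftN (N := N) f (c ⊗ₜ a) = algebraMap N C c * f a := by
  simp [liftN]

theorem liftN_convMul (f g : WithConv (A →ₐ[K] C)) :
    liftN (N := N) (f * g).ofConv = (toConv (liftN (N := N) f.ofConv) * toConv (liftN g.ofConv)).ofConv := by
  refine Algebra.TensorProduct.ext (Subsingleton.elim _ _) (AlgHom.ext fun a => ?_)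
  show liftN (N := N) (f * g).ofConv ((1 : N) ⊗ₜ a) =
    (toConv (liftN (N := N) f.ofConv) * toConv (liftN g.ofConv) : WithConv (N ⊗[K] A →ₐ[N] C)) ((1 : N) ⊗ₜ a)
  rw [liftN_tmul, map_one, one_mul, AlgHom.convMul_apply, AlgHom.convMul_apply]
  let r := Coalgebra.Repr.arbitrary K a
  rw [TensorProduct.comul_tmul, Bialgebra.comul_one, ← r.eq, Algebra.TensorProduct.one_def,
    TensorProduct.tmul_sum]
  simp [map_sum]

theorem liftN_mul_groupLike (f g : WithConv (A →ₐ[K] C)) {z : N ⊗[K] A} (hz : IsGroupLikeElem N z) :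
    liftN (N := N) (f * g).ofConv z = liftN f.ofConv z * liftN g.ofConv z := by
  rw [liftN_convMul]
  show (toConv (liftN (N := N) f.ofConv) * toConv (liftN g.ofConv) : WithConv (N ⊗[K] A →ₐ[N] C)) z = _
  rw [AlgHom.convMul_apply, hz.comul_eq_tmul_self]
  simp

end Lift

variable (e : N ⊗[K] A ≃ₐc[N] MonoidAlgebra N (Lat.{u} n))

/-- The group-like element of a character. -/
def g (v : Fin n → ℤ) : N ⊗[K] A := e.symm (MonoidAlgebra.single (ULift.up (Multiplicative.ofAdd v)) 1)

theorem isGroupLike_g (v : Fin n → ℤ) : IsGroupLikeElem N (g e v) :=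
  (MonoidAlgebra.isGroupLikeElem_single_one _).map e.symm

theorem g_add (v w : Fin n → ℤ) : g e (v + w) = g e v * g e w := by
  simp only [g, ← map_mul, MonoidAlgebra.single_mul_single, one_mul]
  rfl

theorem g_zero : g e 0 = 1 := (congrArg e.symm MonoidAlgebra.one_def.symm).trans (map_one e.symm)

theorem g_injective : Function.Injective (g e) := fun v w h => by
  have := MonoidAlgebra.single_left_injective (one_ne_zero (α := N)) (e.symm.injective h)
  exact Multiplicative.ofAdd.injective (ULift.up_injective this)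

theorem exists_g {z : N ⊗[K] A} (hz : IsGroupLikeElem N z) : ∃ v, g e v = z := by
  obtain ⟨⟨m⟩, hm⟩ := MonoidAlgebra.isGroupLikeElem_iff_mem_range_single_one.1 (hz.map e)
  exact ⟨Multiplicative.toAdd m, (congrArg e.symm hm).trans (e.symm_apply_apply z)⟩

theorem eq_of_forall_g {C : Type u} [CommRing C] [Algebra N C] {F G : N ⊗[K] A →ₐ[N] C}
    (h : ∀ v, F (g e v) = G (g e v)) : F = G := by
  have h' : F.comp (e.symm : MonoidAlgebra N (Lat.{u} n) →ₐ[N] N ⊗[K] A) =
      G.comp (e.symm : MonoidAlgebra N (Lat.{u} n) →ₐ[N] N ⊗[K] A) :=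
    MonoidAlgebra.algHom_ext (fun m => h (Multiplicative.toAdd m.down)) (Subsingleton.elim _ _)
  exact AlgHom.ext fun z => by
    have := AlgHom.congr_fun h' (e z)
    simpa using this

variable (K A) in
/-- The extension of a rational point. -/
abbrev pointN (x : WithConv (A →ₐ[K] K)) : N ⊗[K] A →ₐ[N] N := liftN ((Algebra.ofId K N).comp x.ofConv)

theorem pointN_tmul (x : WithConv (A →ₐ[K] K)) (c : N) (a : A) :
    pointN K A x (c ⊗ₜ[K] a) = c * algebraMap K N (x a) := by
  simp [pointN]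

theorem pointN_mul (x y : WithConv (A →ₐ[K] K)) {z : N ⊗[K] A} (hz : IsGroupLikeElem N z) :
    pointN K A (x * y) z = pointN K A x z * pointN K A y z := by
  have h : toConv ((Algebra.ofId K N).comp (x * y).ofConv) =
      toConv ((Algebra.ofId K N).comp x.ofConv) * toConv ((Algebra.ofId K N).comp y.ofConv) := by
    refine ofConv_injective (AlgHom.ext fun a => ?_)
    show algebraMap K N ((x * y) a) =
      (toConv ((Algebra.ofId K N).comp x.ofConv) * toConv ((Algebra.ofId K N).comp y.ofConv) : WithConv (A →ₐ[K] N)) a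
    rw [AlgHom.convMul_apply, AlgHom.convMul_apply, ← (Coalgebra.Repr.arbitrary K a).eq]
    simp [map_sum]
  exact (congrArg (fun w : WithConv (A →ₐ[K] N) => liftN (N := N) w.ofConv z) h).trans (liftN_mul_groupLike _ _ hz)

/-- The character of a rational point. -/
def chi : WithConv (A →ₐ[K] K) →* (Multiplicative (Fin n → ℤ) →* Nˣ) :=
  MonoidHom.mk' (fun x => MonoidHom.toHomUnits
    { toFun := fun v => pointN K A x (g e (Multiplicative.toAdd v))
      map_one' := by simp [g_zero]
      map_mul' := fun v w => by rw [toAdd_mul, g_add, map_mul] })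
    fun x y => MonoidHom.ext fun v => Units.ext (pointN_mul x y (isGroupLike_g e _))

theorem chi_apply (x : WithConv (A →ₐ[K] K)) (v : Fin n → ℤ) :
    (chi e x (Multiplicative.ofAdd v) : N) = pointN K A x (g e v) := rfl

theorem chi_injective : Function.Injective (chi e) := fun x y h => by
  have h' : pointN K A x = pointN (N := N) K A y := eq_of_forall_g e fun v => by
    rw [← chi_apply, ← chi_apply, h]
  refine ofConv_injective (AlgHom.ext fun a => (algebraMap K N).injective ?_)
  have := AlgHom.congr_fun h' ((1 : N) ⊗ₜ a)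
  simpa [pointN_tmul] using this

variable [FiniteDimensional K N] [IsGalois K N]

theorem pointN_galAct (x : WithConv (A →ₐ[K] K)) (σ : Gal(N/K)) (z : N ⊗[K] A) :
    pointN K A x (MultT.galAct A σ z) = σ (pointN K A x z) := by
  induction z using TensorProduct.induction_on with
  | zero => simp
  | add u v hu hv => simp only [map_add, hu, hv]
  | tmul c a => simp [MultT.galAct, MultT.chStage]

/-- The Galois group acts on the characters through a finite group of matrices. -/
theorem exists_action :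
    ∃ ρ : Gal(N/K) →* Matrix.GeneralLinearGroup (Fin n) ℤ,
      ∀ σ v, MultT.galAct A σ (g e v) = g e ((ρ σ : Matrix (Fin n) (Fin n) ℤ).mulVec v) := by
  classical
  choose ψ hψ using fun (σ : Gal(N/K)) (v : Fin n → ℤ) =>
    exists_g e (MultT.isGroupLikeElem_chStage (σ.toAlgHom.restrictScalars K) (isGroupLike_g e v))
  have hadd : ∀ σ v w, ψ σ (v + w) = ψ σ v + ψ σ w := fun σ v w => g_injective e (by
    rw [hψ, g_add, g_add, map_mul, hψ, hψ])
  let l : Gal(N/K) → ((Fin n → ℤ) →ₗ[ℤ] (Fin n → ℤ)) := fun σ =>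
    (AddMonoidHom.mk' (ψ σ) (hadd σ)).toIntLinearMap
  have hl1 : l 1 = LinearMap.id := LinearMap.ext fun v => g_injective e ((hψ 1 v).trans (MultT.galAct_one _))
  have hlm : ∀ σ τ, l (σ * τ) = (l σ).comp (l τ) := fun σ τ => LinearMap.ext fun v => g_injective e (by
    show g e (ψ (σ * τ) v) = g e (ψ σ (ψ τ v))
    rw [hψ, hψ, hψ]
    exact MultT.galAct_comp σ τ _)
  let m : Gal(N/K) →* Matrix (Fin n) (Fin n) ℤ :=
    { toFun := fun σ => LinearMap.toMatrix' (l σ)
      map_one' := by rw [hl1]; exact LinearMap.toMatrix'_id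
      map_mul' := fun σ τ => by rw [hlm]; exact LinearMap.toMatrix'_comp _ _ }
  refine ⟨m.toHomUnits, fun σ v => ?_⟩
  rw [show ((m.toHomUnits σ : Matrix.GeneralLinearGroup (Fin n) ℤ) : Matrix (Fin n) (Fin n) ℤ).mulVec v = l σ v from
    (Matrix.toLin'_apply _ v).symm.trans (LinearMap.congr_fun (Matrix.toLin'_toMatrix' (l σ)) v)]
  exact (hψ σ v).symm

/-- Either an invariant surjective functional or norms vanish. -/
theorem exists_invariant_or_sum_eq_zero (H : Subgroup (Matrix.GeneralLinearGroup (Fin n) ℤ)) [Fintype H] :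
    (∃ φ : (Fin n → ℤ) →+ ℤ, Function.Surjective φ ∧
      ∀ h : H, ∀ v, φ ((h.1 : Matrix (Fin n) (Fin n) ℤ).mulVec v) = φ v) ∨
    ∀ v, ∑ h : H, (h.1 : Matrix (Fin n) (Fin n) ℤ).mulVec v = 0 := by
  classical
  by_cases hz : ∀ v, ∑ h : H, (h.1 : Matrix (Fin n) (Fin n) ℤ).mulVec v = 0
  · exact Or.inr hz
  left
  push Not at hz
  obtain ⟨v, hv⟩ := hz
  obtain ⟨i, hi⟩ := Function.ne_iff.1 hv
  let φ₀ : (Fin n → ℤ) →+ ℤ := AddMonoidHom.mk' (fun w => (∑ h : H, (h.1 : Matrix (Fin n) (Fin n) ℤ).mulVec w) i)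
    fun a b => by simp [Matrix.mulVec_add, Finset.sum_add_distrib]
  have hinv : ∀ (h : H) w, φ₀ ((h.1 : Matrix (Fin n) (Fin n) ℤ).mulVec w) = φ₀ w := fun h w => by
    show (∑ k : H, (k.1 : Matrix (Fin n) (Fin n) ℤ).mulVec ((h.1 : Matrix (Fin n) (Fin n) ℤ).mulVec w) : Fin n → ℤ) i =
      (∑ k : H, (k.1 : Matrix (Fin n) (Fin n) ℤ).mulVec w : Fin n → ℤ) i
    refine congrFun (Fintype.sum_equiv (Equiv.mulRight h) _ _ fun k => ?_) i
    rw [Matrix.mulVec_mulVec]
    rfl
  obtain ⟨a, ha⟩ := Int.subgroup_cyclic φ₀.range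
  have ha' : ∀ w, a ∣ φ₀ w := fun w => by
    have : φ₀ w ∈ φ₀.range := ⟨w, rfl⟩
    rw [ha, AddSubgroup.mem_closure_singleton] at this
    obtain ⟨c, hc⟩ := this
    exact ⟨c, by rw [← hc, zsmul_eq_mul, mul_comm]; rfl⟩
  have ha0 : a ≠ 0 := fun h0 => hi (by have := ha' v; rw [h0, zero_dvd_iff] at this; exact this)
  obtain ⟨w, hw⟩ : a ∈ φ₀.range := by rw [ha]; exact AddSubgroup.subset_closure rfl
  refine ⟨AddMonoidHom.mk' (fun w => φ₀ w / a) (fun x y => by rw [map_add, Int.add_ediv_of_dvd_left (ha' x)]),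
    fun c => ⟨c • w, ?_⟩, fun h w => ?_⟩
  · show φ₀ (c • w) / a = c
    rw [map_zsmul, hw, zsmul_eq_mul, Int.cast_id, Int.mul_ediv_cancel c ha0]
  · show φ₀ _ / a = φ₀ w / a
    rw [hinv]

omit [FiniteDimensional K N] [IsGalois K N] in
/-- A character fixed by a group with vanishing norms is killed by its order. -/
theorem pow_card_eq_one {G : Type*} [CommGroup G] (χ : Multiplicative (Fin n → ℤ) →* G)
    (H : Subgroup (Matrix.GeneralLinearGroup (Fin n) ℤ)) [Fintype H]
    (hinv : ∀ (h : H) v, χ (Multiplicative.ofAdd ((h.1 : Matrix (Fin n) (Fin n) ℤ).mulVec v)) = χ (Multiplicative.ofAdd v))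
    (hsum : ∀ v, ∑ h : H, (h.1 : Matrix (Fin n) (Fin n) ℤ).mulVec v = 0) : χ ^ Nat.card H = 1 := by
  refine MonoidHom.ext fun v => ?_
  obtain ⟨v, rfl⟩ := Multiplicative.ofAdd.surjective v
  rw [MonoidHom.pow_apply, MonoidHom.one_apply, Nat.card_eq_fintype_card, ← Finset.card_univ,
    ← Finset.prod_const]
  rw [← Finset.prod_congr rfl fun h _ => hinv h v, ← map_prod, ← ofAdd_sum, hsum, ofAdd_zero, map_one]

/-- If the values of a rational point's character lie in the base, the character is invariant. -/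
theorem chi_invariant (ρ : Gal(N/K) →* Matrix.GeneralLinearGroup (Fin n) ℤ)
    (hρ : ∀ σ v, MultT.galAct A σ (g e v) = g e ((ρ σ : Matrix (Fin n) (Fin n) ℤ).mulVec v))
    (x : WithConv (A →ₐ[K] K)) (hx : ∀ v, (chi e x v : N) ∈ (algebraMap K N).range) (h : ρ.range) (v : Fin n → ℤ) :
    chi e x (Multiplicative.ofAdd ((h.1 : Matrix (Fin n) (Fin n) ℤ).mulVec v)) = chi e x (Multiplicative.ofAdd v) := by
  obtain ⟨σ, hσ⟩ := h.2
  refine Units.ext ?_
  rw [chi_apply, ← hσ, ← hρ, pointN_galAct, ← chi_apply]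
  obtain ⟨c, hc⟩ := hx (Multiplicative.ofAdd v)
  rw [← hc, AlgEquiv.commutes]

end Groth.Agent.TorusChar
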