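import Groth.Agent.TorusChar.Action

/-!
# An invariant functional gives a subtorus; points as homomorphisms
-/

set_option autoImplicit false
set_option linter.style.haveILetI false
set_option backward.isDefEq.respectTransparency.types false

universe u

open CategoryTheory AlgebraicGeometry TensorProduct WithConv
open scoped CategoryTheory.Obj

noncomputable section

namespace Groth.Agent.TorusChar

open Groth.Agent

variable {K : Type u} [Field K] {A : Type u} [CommRing A] [HopfAlgebra K A]
  {N : Type u} [Field N] [Algebra K N] [FiniteDimensional K N] [IsGalois K N] {n : ℕ}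
  (e : N ⊗[K] A ≃ₐc[N] MonoidAlgebra N (Lat.{u} n))

/-- An invariant surjective functional gives a surjective map of bialgebras onto Laurent polynomials. -/
theorem exists_cochar (ρ : Gal(N/K) →* Matrix.GeneralLinearGroup (Fin n) ℤ)
    (hρ : ∀ σ v, MultT.galAct A σ (g e v) = g e ((ρ σ : Matrix (Fin n) (Fin n) ℤ).mulVec v))
    (φ : (Fin n → ℤ) →+ ℤ) (hsurj : Function.Surjective φ)
    (hinv : ∀ h : ρ.range, ∀ v, φ ((h.1 : Matrix (Fin n) (Fin n) ℤ).mulVec v) = φ v) :
    ∃ f : A →ₐc[K] MonoidAlgebra K (Multiplicative ℤ), Function.Surjective f := by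
  classical
  let B := MonoidAlgebra K (Multiplicative ℤ)
  let θ : Lat.{u} n →* Multiplicative ℤ :=
    (AddMonoidHom.toMultiplicative φ).comp (MulEquiv.ulift (α := Multiplicative (Fin n → ℤ))).toMonoidHom
  let Φ : N ⊗[K] A →ₐ[N] MonoidAlgebra N (Multiplicative ℤ) :=
    (MonoidAlgebra.mapDomainAlgHom N N θ).comp (e : N ⊗[K] A →ₐ[N] MonoidAlgebra N (Lat.{u} n))
  have hΦg : ∀ v, Φ (g e v) = MonoidAlgebra.single (Multiplicative.ofAdd (φ v)) 1 := fun v => by
    show MonoidAlgebra.mapDomainAlgHom N N θ (e (e.symm _)) = _
    rw [e.apply_symm_apply, MonoidAlgebra.mapDomainAlgHom_apply, MonoidAlgebra.mapDomain_single]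
    rfl
  let ib : B →ₐ[K] MonoidAlgebra N (Multiplicative ℤ) :=
    MonoidAlgebra.mapAlgHom (Multiplicative ℤ) (Algebra.ofId K N)
  have hibs : ∀ m c, ib (MonoidAlgebra.single m c) = MonoidAlgebra.single m (algebraMap K N c) := fun m c =>
    MonoidAlgebra.mapAlgHom_single _ _ _
  have hibc : ∀ x m, (ib x).coeff m = algebraMap K N (x.coeff m) := fun x m =>
    MonoidAlgebra.coeff_mapAlgHom _ _ _
  have hibinj : Function.Injective ib := fun x y h => by
    refine MonoidAlgebra.ext (Finsupp.ext fun m => (algebraMap K N).injective ?_)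
    rw [← hibc, ← hibc, h]
  -- equivariance
  let act : Gal(N/K) → (MonoidAlgebra N (Multiplicative ℤ) →ₐ[K] MonoidAlgebra N (Multiplicative ℤ)) :=
    fun σ => MonoidAlgebra.mapAlgHom (Multiplicative ℤ) σ.toAlgHom
  have hactsmul : ∀ σ (c : N) z, act σ (c • z) = σ c • act σ z := fun σ c z => by
    rw [Algebra.smul_def, map_mul, Algebra.smul_def]
    simp [act, MonoidAlgebra.coe_algebraMap]
  have heq : ∀ σ z, Φ (MultT.galAct A σ z) = act σ (Φ z) := by
    intro σ z
    have hz : z ∈ Submodule.span N (Set.range (g e)) := by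
      rw [← e.symm_apply_apply z]
      induction e z using MonoidAlgebra.induction_linear with
      | zero => simp
      | add a b ha hb => rw [map_add]; exact Submodule.add_mem _ ha hb
      | single m c =>
        rw [show MonoidAlgebra.single m c = c • MonoidAlgebra.single m (1 : N) by
          rw [MonoidAlgebra.smul_single, smul_eq_mul, mul_one], map_smul]
        exact Submodule.smul_mem _ _ (Submodule.subset_span ⟨Multiplicative.toAdd m.down, rfl⟩)
    induction hz using Submodule.span_induction with
    | mem x hx =>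
      obtain ⟨v, rfl⟩ := hx
      rw [hρ, hΦg, hΦg, hinv ⟨ρ σ, σ, rfl⟩ v]
      simp [act]
    | zero => simp
    | add x y _ _ hx hy => simp only [map_add, hx, hy]
    | smul c x _ hx =>
      rw [show MultT.galAct A σ (c • x) = σ c • MultT.galAct A σ x from
        MultT.chStage_smul (σ.toAlgHom.restrictScalars K) c x, map_smul, map_smul, hactsmul, hx]
  -- descent
  let f₁ : A →ₐ[K] MonoidAlgebra N (Multiplicative ℤ) :=
    (Φ.restrictScalars K).comp Algebra.TensorProduct.includeRight
  have hrange : ∀ a, f₁ a ∈ ib.range := by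
    intro a
    have hc : ∀ m, (f₁ a).coeff m ∈ (algebraMap K N).range := fun m => by
      refine (IsGalois.mem_range_algebraMap_iff_fixed _).2 fun σ => ?_
      have h1 := heq σ ((1 : N) ⊗ₜ a)
      rw [show MultT.galAct A σ ((1 : N) ⊗ₜ a) = (1 : N) ⊗ₜ a by simp [MultT.galAct, MultT.chStage]] at h1
      have := congrArg (fun z : MonoidAlgebra N (Multiplicative ℤ) => z.coeff m) h1
      simpa [act, f₁] using this.symm
    rw [← MonoidAlgebra.sum_coeff_single (f₁ a)]
    refine Subalgebra.sum_mem _ fun m _ => ?_
    obtain ⟨c, hc⟩ := hc m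
    exact ⟨MonoidAlgebra.single m c, by rw [← hc]; exact MonoidAlgebra.mapAlgHom_single _ _ _⟩
  let f : A →ₐ[K] B := (AlgEquiv.ofInjective ib hibinj).symm.toAlgHom.comp (f₁.codRestrict ib.range hrange)
  have hf : ib.comp f = f₁ := AlgHom.ext fun a =>
    congrArg Subtype.val ((AlgEquiv.ofInjective ib hibinj).apply_symm_apply ⟨f₁ a, hrange a⟩)
  have hΦf : liftN (N := N) (ib.comp f) = Φ := by
    rw [hf]
    exact Algebra.TensorProduct.ext (Subsingleton.elim _ _) (AlgHom.ext fun a => by simp [f₁])
  -- counit
  have hε : (Bialgebra.counitAlgHom K B).comp f = Bialgebra.counitAlgHom K A := by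
    let εN : MonoidAlgebra N (Multiplicative ℤ) →ₐ[N] N := MonoidAlgebra.lift N N (Multiplicative ℤ) 1
    have h1 : εN.comp Φ = Bialgebra.counitAlgHom N (N ⊗[K] A) := eq_of_forall_g e fun v => by
      show εN (Φ (g e v)) = _
      rw [hΦg, Bialgebra.counitAlgHom_apply, (isGroupLike_g e v).counit_eq_one]
      simp [εN]
    have h2 : (εN.restrictScalars K).comp ib = (Algebra.ofId K N).comp (Bialgebra.counitAlgHom K B) :=
      MonoidAlgebra.algHom_ext (fun m => by simp [εN, hibs, B, Bialgebra.counitAlgHom_apply]) (Subsingleton.elim _ _)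
    refine AlgHom.ext fun a => (algebraMap K N).injective ?_
    have h3 := AlgHom.congr_fun h2 (f a)
    have h4 := AlgHom.congr_fun h1 ((1 : N) ⊗ₜ a)
    rw [← hΦf] at h4
    simp only [AlgHom.comp_apply, liftN_tmul, map_one, one_mul, Bialgebra.counitAlgHom_apply,
      TensorProduct.counit_tmul, AlgHom.restrictScalars_apply] at h3 h4 ⊢
    rw [← show εN (ib (f a)) = algebraMap K N (Coalgebra.counit (R := K) (f a)) from h3, h4]
    simp [Algebra.smul_def]
  -- comultiplication
  have hΔ : (Algebra.TensorProduct.map f f).comp (Bialgebra.comulAlgHom K A) =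
      (Bialgebra.comulAlgHom K B).comp f := by
    let P := Multiplicative ℤ × Multiplicative ℤ
    have hinlr : ∀ a b : Multiplicative ℤ, MonoidHom.inl (Multiplicative ℤ) (Multiplicative ℤ) a * MonoidHom.inr (Multiplicative ℤ) (Multiplicative ℤ) b = (a, b) :=
      fun a b => Prod.ext (mul_one a) (one_mul b)
    let j₁ : MonoidAlgebra N (Multiplicative ℤ) →ₐ[N] MonoidAlgebra N P :=
      MonoidAlgebra.mapDomainAlgHom N N (MonoidHom.inl _ _)
    let j₂ : MonoidAlgebra N (Multiplicative ℤ) →ₐ[N] MonoidAlgebra N P :=
      MonoidAlgebra.mapDomainAlgHom N N (MonoidHom.inr _ _)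
    let D : MonoidAlgebra N (Multiplicative ℤ) →ₐ[N] MonoidAlgebra N P :=
      MonoidAlgebra.mapDomainAlgHom N N ((MonoidHom.id _).prod (MonoidHom.id _))
    let i₁ : B →ₐ[K] MonoidAlgebra N P := (j₁.restrictScalars K).comp ib
    let i₂ : B →ₐ[K] MonoidAlgebra N P := (j₂.restrictScalars K).comp ib
    let J : B ⊗[K] B →ₐ[K] MonoidAlgebra N P := Algebra.TensorProduct.lift i₁ i₂ fun _ _ => Commute.all _ _
    have hJ : ∀ z : B ⊗[K] B, J z =
        MonoidAlgebra.mapAlgHom P (Algebra.ofId K N) (MonoidAlgebra.tensorEquiv K z) := by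
      intro z
      induction z using TensorProduct.induction_on with
      | zero => simp
      | add x y hx hy => simp only [map_add, hx, hy]
      | tmul x y =>
        induction x using MonoidAlgebra.induction_linear with
        | zero => simp
        | add x x' hx hx' => simp only [TensorProduct.add_tmul, map_add, hx, hx']
        | single m c =>
          induction y using MonoidAlgebra.induction_linear with
          | zero => simp
          | add y y' hy hy' => simp only [TensorProduct.tmul_add, map_add, hy, hy']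
          | single m' c' =>
            rw [MonoidAlgebra.tensorEquiv_single_tmul_single]
            simp [J, i₁, i₂, j₁, j₂, hibs, MonoidAlgebra.single_mul_single, hinlr]
    have hJinj : Function.Injective J := by
      intro x y h
      rw [hJ, hJ] at h
      refine (MonoidAlgebra.tensorEquiv K).injective (MonoidAlgebra.ext (Finsupp.ext fun m => (algebraMap K N).injective ?_))
      have h' := congrArg (fun z : MonoidAlgebra N P => z.coeff m) h
      simpa [MonoidAlgebra.coeff_mapAlgHom] using h'
    have hL : (toConv (i₁.comp f) * toConv (i₂.comp f) : WithConv (A →ₐ[K] MonoidAlgebra N P)).ofConv =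
        (D.restrictScalars K).comp (ib.comp f) := by
      have h1 : liftN (N := N) (toConv (i₁.comp f) * toConv (i₂.comp f) : WithConv (A →ₐ[K] MonoidAlgebra N P)).ofConv =
          D.comp Φ := by
        refine eq_of_forall_g e fun v => ?_
        rw [liftN_mul_groupLike _ _ (isGroupLike_g e v)]
        have e1 : liftN (N := N) (i₁.comp f) = j₁.comp Φ := by
          rw [← hΦf]
          exact Algebra.TensorProduct.ext (Subsingleton.elim _ _) (AlgHom.ext fun a => by simp [i₁, ← MonoidAlgebra.one_def])
        have e2 : liftN (N := N) (i₂.comp f) = j₂.comp Φ := by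
          rw [← hΦf]
          exact Algebra.TensorProduct.ext (Subsingleton.elim _ _) (AlgHom.ext fun a => by simp [i₂, ← MonoidAlgebra.one_def])
        show liftN (N := N) (i₁.comp f) (g e v) * liftN (N := N) (i₂.comp f) (g e v) = D (Φ (g e v))
        rw [e1, e2, AlgHom.comp_apply j₁, AlgHom.comp_apply j₂, hΦg]
        simp [j₁, j₂, D, MonoidAlgebra.single_mul_single, hinlr]
        rfl
      refine AlgHom.ext fun a => ?_
      have := AlgHom.congr_fun h1 ((1 : N) ⊗ₜ a)
      rw [← hΦf] at this
      simpa [liftN_tmul, ← MonoidAlgebra.one_def] using this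
    have hD : J.comp (Bialgebra.comulAlgHom K B) = (D.restrictScalars K).comp ib :=
      MonoidAlgebra.algHom_ext (fun m => by
        simp [J, B, i₁, i₂, j₁, j₂, D, hibs, Bialgebra.comulAlgHom_apply, MonoidAlgebra.single_mul_single, hinlr]
        rfl) (Subsingleton.elim _ _)
    refine AlgHom.ext fun a => hJinj ?_
    have h5 := AlgHom.congr_fun hD (f a)
    simp only [AlgHom.comp_apply, AlgHom.restrictScalars_apply] at h5 ⊢
    rw [h5]
    have h6 := AlgHom.congr_fun hL a
    refine Eq.trans ?_ h6
    show _ = (toConv (i₁.comp f) * toConv (i₂.comp f) : WithConv (A →ₐ[K] MonoidAlgebra N P)) a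
    rw [AlgHom.convMul_apply]
    simp only [Bialgebra.comulAlgHom_apply]
    induction Coalgebra.comul (R := K) a using TensorProduct.induction_on with
    | zero => simp
    | add x y hx hy => simp only [map_add, hx, hy]
    | tmul x y => simp [J]
  refine ⟨BialgHom.ofAlgHom f hε hΔ, ?_⟩
  -- surjectivity
  obtain ⟨r, hr⟩ := (Algebra.linearMap K N).exists_leftInverse_of_injective
    (LinearMap.ker_eq_bot.2 (algebraMap K N).injective)
  let R : MonoidAlgebra N (Multiplicative ℤ) → B := fun z =>
    MonoidAlgebra.ofCoeff (Finsupp.mapRange r (map_zero r) z.coeff)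
  intro b
  show b ∈ LinearMap.range f.toLinearMap
  induction b using MonoidAlgebra.induction_linear with
  | zero => exact Submodule.zero_mem _
  | add x y hx hy => exact Submodule.add_mem _ hx hy
  | single m c =>
    rw [show MonoidAlgebra.single m c = c • MonoidAlgebra.single m (1 : K) by
      rw [MonoidAlgebra.smul_single, smul_eq_mul, mul_one]]
    refine Submodule.smul_mem _ _ ?_
    obtain ⟨v, hv⟩ := hsurj (Multiplicative.toAdd m)
    have key : ∀ z : N ⊗[K] A, R (Φ z) ∈ LinearMap.range f.toLinearMap := by
      intro z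
      induction z using TensorProduct.induction_on with
      | zero =>
        rw [map_zero, show R 0 = 0 from MonoidAlgebra.ext (Finsupp.ext fun _ => by simp [R])]
        exact Submodule.zero_mem _
      | add x y hx hy =>
        rw [map_add, show R (Φ x + Φ y) = R (Φ x) + R (Φ y) from
          MonoidAlgebra.ext (Finsupp.ext fun _ => map_add r _ _)]
        exact Submodule.add_mem _ hx hy
      | tmul c a =>
        rw [← hΦf, liftN_tmul]
        refine ⟨r c • a, MonoidAlgebra.ext (Finsupp.ext fun m => ?_)⟩
        have h7 : r (c * algebraMap K N ((f a).coeff m)) = (f a).coeff m * r c := by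
          rw [← Algebra.commutes, ← Algebra.smul_def, map_smul, smul_eq_mul]
        rw [AlgHom.toLinearMap_apply, map_smul, MonoidAlgebra.coeff_smul, Finsupp.smul_apply, smul_eq_mul, mul_comm, ← h7]
        simp [R, hibc]
    have := key (g e v)
    rw [hΦg, hv] at this
    convert this using 1
    refine MonoidAlgebra.ext (Finsupp.ext fun m' => ?_)
    have hr1 : r 1 = 1 := by simpa using LinearMap.congr_fun hr 1
    by_cases hm : m' = m
    · subst hm; simp [R, hr1]
    · simp [R, Finsupp.single_eq_of_ne hm]

end Groth.Agent.TorusChar
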